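import Groth.Agent.PlaneCubic.Hesse

/-! Flexes and projective automorphisms of plane cubics. -/

namespace Groth.Agent.PlaneCubic
open MvPolynomial

variable {K : Type*} [Field K] [CharZero K]

/-- flex in terms of values -/
def EFlex (f : MvPolynomial (Fin 3) K) (v : V K) : Prop :=
  v ≠ 0 ∧ eval v f = 0 ∧ ∃ w : V K, LinearIndependent K ![v, w] ∧ ∀ t : K, eval (v + t • w) f = t ^ 3 * eval w f

omit [CharZero K] in
lemma eval_subst (A : Matrix (Fin 3) (Fin 3) K) (f : MvPolynomial (Fin 3) K) (x : V K) :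
    eval x (aeval (fun i : Fin 3 => ∑ j : Fin 3, C (A i j) * X j) f) = eval (A.mulVec x) f := by
  rw [← aeval_eq_eval, ← AlgHom.comp_apply]
  have h : ((aeval x).comp (aeval fun i : Fin 3 => ∑ j : Fin 3, C (A i j) * X j) : MvPolynomial (Fin 3) K →ₐ[K] K) =
      aeval (A.mulVec x) := by
    ext i
    simp [Matrix.mulVec, dotProduct]
  rw [h, aeval_eq_eval]

lemma subst_eq_iff (A : Matrix (Fin 3) (Fin 3) K) (f g : MvPolynomial (Fin 3) K) :
    aeval (fun i : Fin 3 => ∑ j : Fin 3, C (A i j) * X j) f = g ↔ ∀ x, eval (A.mulVec x) f = eval x g := by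
  haveI : Infinite K := Infinite.of_injective _ Nat.cast_injective
  refine ⟨fun h x => by rw [← eval_subst, h], fun h => MvPolynomial.funext fun x => by rw [eval_subst, h]⟩

omit [CharZero K] in
lemma EFlex.map {f g : MvPolynomial (Fin 3) K} (Φ : V K →ₗ[K] V K) (hΦ : Function.Injective Φ) {l : K}
    (hl : l ≠ 0) (h : ∀ x, eval (Φ x) g = l * eval x f) {v : V K} (hv : EFlex f v) : EFlex g (Φ v) := by
  obtain ⟨hv0, hfv, w, hli, hw⟩ := hv
  refine ⟨fun h0 => hv0 ((map_eq_zero_iff Φ hΦ).1 h0), by rw [h, hfv, mul_zero], Φ w, ?_, fun t => ?_⟩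
  · refine LinearIndependent.pair_iff.2 fun s r e => LinearIndependent.pair_iff.1 hli s r (hΦ ?_)
    rw [map_add, map_smul, map_smul, e, map_zero]
  · rw [← map_smul, ← map_add, h, h, hw]; ring

omit [CharZero K] in
lemma pderiv_three (i : Fin 3) : pderiv i (3 : MvPolynomial (Fin 3) K) = 0 := by
  rw [← map_ofNat (C : K →+* MvPolynomial (Fin 3) K) 3, pderiv_C]

lemma form_isHomogeneous (k : K) : (HesseCubic.form k).IsHomogeneous 3 := by
  rw [HesseCubic.form]
  refine ((((isHomogeneous_X K 0).pow 3).add ((isHomogeneous_X K 1).pow 3)).add ((isHomogeneous_X K 2).pow 3)).sub ?_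
  exact (((isHomogeneous_X K 0).mul (isHomogeneous_X K 1)).mul (isHomogeneous_X K 2)).C_mul _

lemma form_smooth {k : K} (hk : k ^ 3 ≠ 1) : Smooth (HesseCubic.form k) := by
  refine smooth_of (form_isHomogeneous k) fun v hv _ => ?_
  by_contra hne
  push Not at hne
  have h0 := hne 0
  have h1 := hne 1
  have h2 := hne 2
  simp [HesseCubic.form, pderiv_X, Pi.single_apply, pderiv_three] at h0 h1 h2
  apply hv
  have e0 : v 0 ^ 2 = k * (v 1 * v 2) := by linear_combination h0 / 3
  have e1 : v 1 ^ 2 = k * (v 0 * v 2) := by linear_combination h1 / 3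
  have e2 : v 2 ^ 2 = k * (v 0 * v 1) := by linear_combination h2 / 3
  have e3 : (v 0 * v 1 * v 2) ^ 2 * (1 - k ^ 3) = 0 := by
    have : v 0 ^ 2 * v 1 ^ 2 * v 2 ^ 2 = k * (v 1 * v 2) * (k * (v 0 * v 2)) * (k * (v 0 * v 1)) := by rw [e0, e1, e2]
    linear_combination this
  have e4 : v 0 * v 1 * v 2 = 0 := pow_eq_zero_iff two_ne_zero |>.1
    ((mul_eq_zero.1 e3).resolve_right fun h => hk (by linear_combination -h))
  have z0 : v 0 = 0 := pow_eq_zero_iff three_ne_zero |>.1 (by linear_combination v 0 * e0 + k * e4)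
  have z1 : v 1 = 0 := pow_eq_zero_iff three_ne_zero |>.1 (by linear_combination v 1 * e1 + k * e4)
  have z2 : v 2 = 0 := pow_eq_zero_iff three_ne_zero |>.1 (by linear_combination v 2 * e2 + k * e4)
  funext i; fin_cases i <;> assumption

lemma hess_eq_zero_of_flex {f : MvPolynomial (Fin 3) K} (hf : f.IsHomogeneous 3) {v : V K} (hv : Flex f v) :
    eval v (hess f) = 0 := by
  classical
  obtain ⟨hv0, h0, w, hli, h1, h2⟩ := hv
  rw [eval_hess hf, ← Matrix.exists_mulVec_eq_zero_iff]
  suffices ∃ u : V K, u ≠ 0 ∧ ∀ z, S f v u z = 0 by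
    obtain ⟨u, hu, hz⟩ := this
    exact ⟨u, hu, funext fun i => by rw [mulVec_hess hf, hz, mul_zero]; rfl⟩
  by_cases hc : SL f v v = 0
  · exact ⟨v, hv0, fun z => LinearMap.congr_fun hc z⟩
  obtain ⟨u, hu⟩ := LinearMap.surjective hc (1 : K)
  simp only [SL_apply] at hu
  refine ⟨(-(S f v w u)) • v + w, ?_, fun z => ?_⟩
  · intro h
    exact one_ne_zero (LinearIndependent.pair_iff.1 hli (-(S f v w u)) 1 (by rw [one_smul, h])).2
  -- the three vectors span
  have hspan : ∃ c : V K, c 0 • w + c 1 • v + c 2 • u = z := by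
    let T : V K →ₗ[K] V K :=
      { toFun := fun c => c 0 • w + c 1 • v + c 2 • u
        map_add' := fun c d => by simp only [Pi.add_apply]; module
        map_smul' := fun r c => by simp only [Pi.smul_apply, smul_eq_mul, RingHom.id_apply]; module }
    refine (LinearMap.injective_iff_surjective (f := T)).1 ((injective_iff_map_eq_zero T).2 fun c hc => ?_) z
    have hc' : c 0 • w + c 1 • v + c 2 • u = 0 := hc
    have h3 := congrArg (SL f v v) hc'
    simp only [map_add, map_smul, map_zero, SL_apply, h1, h0, hu, smul_eq_mul, mul_zero, zero_add, mul_one] at h3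
    rw [h3, zero_smul, add_zero, add_comm] at hc'
    obtain ⟨e1, e2⟩ := LinearIndependent.pair_iff.1 hli _ _ hc'
    funext i; fin_cases i <;> assumption
  obtain ⟨c, rfl⟩ := hspan
  simp only [S_add2, S_add3, S_smul2, S_smul3, h0, h1, h2, hu, S_comm23 f v w v]
  ring

lemma eval_hess_form (k : K) (v : V K) :
    eval v (hess (HesseCubic.form k)) = 216 * (1 - k ^ 3) * (v 0 * v 1 * v 2) - 54 * k ^ 2 * eval v (HesseCubic.form k) := by
  rw [hess, Matrix.det_fin_three]
  simp [HesseCubic.form, pderiv_X, Pi.single_apply, pderiv_three]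
  ring

/-- the flexes of a smooth Hesse cubic -/
theorem eflex_form_iff {k : K} (hk : k ^ 3 ≠ 1) {v : V K} (hv : v ≠ 0) (h0 : eval v (HesseCubic.form k) = 0) :
    EFlex (HesseCubic.form k) v ↔ v 0 * v 1 * v 2 = 0 := by
  rw [show EFlex (HesseCubic.form k) v ↔ Flex (HesseCubic.form k) v from (flex_iff (form_isHomogeneous k) v).symm]
  refine ⟨fun h => ?_, fun h => flex_of_hess (form_isHomogeneous k) (form_smooth hk) hv
    (by rw [← eval_eq_S (form_isHomogeneous k)]; exact h0) (by rw [eval_hess_form, h, h0]; ring)⟩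
  have h1 := hess_eq_zero_of_flex (form_isHomogeneous k) h
  rw [eval_hess_form, h0, mul_zero, sub_zero] at h1
  exact (mul_eq_zero.1 h1).resolve_left (mul_ne_zero (by norm_num) fun h => hk (by linear_combination -h))

lemma flexPoint_eflex {k : K} (hk : k ^ 3 ≠ 1) {γ : K} (hγ : γ ^ 3 = 1) :
    EFlex (HesseCubic.form k) ![0, 1, -γ] ∧ EFlex (HesseCubic.form k) ![-γ, 0, 1] := by
  constructor <;>
  · have h0 : ∀ P : V K, P ≠ 0 → hval k P = 0 → P 0 * P 1 * P 2 = 0 → EFlex (HesseCubic.form k) P := fun P hP h h' =>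
      (eflex_form_iff hk hP (by rw [eval_form, h])).2 h'
    refine h0 _ (fun h => ?_) ?_ (by simp)
    · have e1 := congrFun h 1
      have e2 := congrFun h 2
      simp at e1 e2
    · simp [hval]; linear_combination -hγ

lemma eq_flexPoint {k : K} {v : V K} (hv : v ≠ 0) (h0 : v 0 = 0) (h : hval k v = 0) :
    ∃ γ c : K, γ ^ 3 = 1 ∧ c ≠ 0 ∧ v = c • ![0, 1, -γ] := by
  have h' : v 1 ^ 3 + v 2 ^ 3 = 0 := by simpa [hval, h0] using h
  have h1 : v 1 ≠ 0 := fun h1 => hv (by
    have : v 2 = 0 := by simpa [h1] using h'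
    funext i; fin_cases i <;> assumption)
  refine ⟨-(v 2) / v 1, v 1, ?_, h1, ?_⟩
  · field_simp; linear_combination -h'
  · funext i; fin_cases i
    · simpa using h0
    · simp
    · simp; field_simp

end Groth.Agent.PlaneCubic
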