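import Mathlib.RingTheory.MvPolynomial.EulerIdentity
import Mathlib.RingTheory.Derivation.Lie
import Mathlib.Algebra.MvPolynomial.Funext
import Mathlib.FieldTheory.IsAlgClosed.Basic
import Mathlib.LinearAlgebra.Matrix.ToLin
import Mathlib.RingTheory.Nullstellensatz
import Mathlib.RingTheory.Ideal.KrullsHeightTheorem
import Mathlib.Tactic

/-! Plane cubic forms as symmetric trilinear forms; flexes. -/

namespace Groth.Agent.PlaneCubic
open MvPolynomial

abbrev V (K : Type*) := Fin 3 → K
variable {K : Type*} [Field K] [CharZero K] (f : MvPolynomial (Fin 3) K)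

/-- third derivative coefficient -/
noncomputable def c3 (i j k : Fin 3) : K := eval 0 (pderiv k (pderiv j (pderiv i f)))

/-- the symmetric trilinear form of a cubic form -/
noncomputable def S (x y z : (V K)) : K := (1/6) * ∑ i, ∑ j, ∑ k, x i * y j * z k * c3 f i j k

lemma pderiv_comm' (i j : Fin 3) (p : MvPolynomial (Fin 3) K) :
    pderiv i (pderiv j p) = pderiv j (pderiv i p) := by
  have h : ⁅pderiv (R := K) i, pderiv (R := K) j⁆ = 0 := by
    apply MvPolynomial.derivation_ext
    intro m
    simp [Derivation.commutator_apply, pderiv_X, Pi.single_apply, apply_ite]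
  have := congrArg (fun D => D p) h
  simp only [Derivation.commutator_apply, Derivation.coe_zero, Pi.zero_apply] at this
  exact sub_eq_zero.1 this

lemma c3_comm12 (i j k : Fin 3) : c3 f i j k = c3 f j i k := by rw [c3, c3, pderiv_comm' i j]
lemma c3_comm23 (i j k : Fin 3) : c3 f i j k = c3 f i k j := by rw [c3, c3, pderiv_comm' j k]

lemma S_comm12 (x y z : (V K)) : S f x y z = S f y x z := by
  simp only [S]; congr 1
  rw [Finset.sum_comm]
  exact Finset.sum_congr rfl fun i _ => Finset.sum_congr rfl fun j _ => Finset.sum_congr rfl fun k _ => by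
    rw [c3_comm12]; ring

lemma S_comm23 (x y z : (V K)) : S f x y z = S f x z y := by
  simp only [S]; congr 1
  refine Finset.sum_congr rfl fun i _ => ?_
  rw [Finset.sum_comm]
  exact Finset.sum_congr rfl fun j _ => Finset.sum_congr rfl fun k _ => by rw [c3_comm23]; ring

lemma S_add3 (x y a b : (V K)) : S f x y (a + b) = S f x y a + S f x y b := by
  simp [S, mul_add, add_mul, Finset.sum_add_distrib]

lemma S_smul3 (x y a : (V K)) (r : K) : S f x y (r • a) = r * S f x y a := by
  simp only [S, Pi.smul_apply, smul_eq_mul, Finset.mul_sum]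
  exact Finset.sum_congr rfl fun i _ => Finset.sum_congr rfl fun j _ => Finset.sum_congr rfl fun k _ => by ring

lemma S_add2 (x z a b : (V K)) : S f x (a + b) z = S f x a z + S f x b z := by
  rw [S_comm23, S_add3, S_comm23 f x z a, S_comm23 f x z b]
lemma S_smul2 (x z a : (V K)) (r : K) : S f x (r • a) z = r * S f x a z := by
  rw [S_comm23, S_smul3, S_comm23 f x z a]
lemma S_add1 (y z a b : (V K)) : S f (a + b) y z = S f a y z + S f b y z := by
  rw [S_comm12, S_add2, S_comm12 f y a, S_comm12 f y b]
lemma S_smul1 (y z a : (V K)) (r : K) : S f (r • a) y z = r * S f a y z := by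
  rw [S_comm12, S_smul2, S_comm12 f y a]

/-- `S x y ·` as a linear form. -/
noncomputable def SL (x y : (V K)) : (V K) →ₗ[K] K where
  toFun z := S f x y z
  map_add' := S_add3 f x y
  map_smul' r z := S_smul3 f x y z r

@[simp] lemma SL_apply (x y z : (V K)) : SL f x y z = S f x y z := rfl

variable {f}
variable (hf : f.IsHomogeneous 3)
include hf

lemma c3_const (i j k : Fin 3) (x : (V K)) : eval x (pderiv k (pderiv j (pderiv i f))) = c3 f i j k := by
  have h : (pderiv k (pderiv j (pderiv i f))).IsHomogeneous 0 := hf.pderiv.pderiv.pderiv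
  rw [← totalDegree_zero_iff_isHomogeneous, totalDegree_eq_zero_iff_eq_C] at h
  rw [c3, h]; simp

lemma eval_pderiv_eq (v : (V K)) (i : Fin 3) :
    eval v (pderiv i f) = (1/2) * ∑ j, ∑ k, v j * v k * c3 f i j k := by
  have h1 := congrArg (eval v) (hf.pderiv (i := i)).sum_X_mul_pderiv
  have h2 : ∀ j, eval v (pderiv j (pderiv i f)) = ∑ k, v k * c3 f i j k := by
    intro j
    have := congrArg (eval v) ((hf.pderiv (i := i)).pderiv (i := j)).sum_X_mul_pderiv
    simp only [map_sum, map_mul, eval_X, c3_const hf] at this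
    simpa using this.symm
  simp only [map_sum, map_mul, eval_X, h2, Finset.mul_sum] at h1
  norm_num at h1
  have e : ∑ j, ∑ k, v j * v k * c3 f i j k = ∑ j, ∑ k, v j * (v k * c3 f i j k) := by
    simp only [mul_assoc]
  rw [e, h1]; ring

lemma eval_eq_S (v : (V K)) : eval v f = S f v v v := by
  have h1 := congrArg (eval v) hf.sum_X_mul_pderiv
  simp only [map_sum, map_mul, eval_X, eval_pderiv_eq hf, nsmul_eq_mul, map_natCast] at h1
  have : ∑ i, ∑ j, ∑ k, v i * v j * v k * c3 f i j k = 6 * eval v f := by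
    have h3 : (2:K) * ∑ i, v i * (1 / 2 * ∑ j, ∑ k, v j * v k * c3 f i j k) =
        ∑ i, ∑ j, ∑ k, v i * v j * v k * c3 f i j k := by
      simp only [Finset.mul_sum]
      exact Finset.sum_congr rfl fun i _ => Finset.sum_congr rfl fun j _ => Finset.sum_congr rfl fun k _ => by ring
    rw [← h3, h1]; push_cast; ring
  rw [S, this]; ring

lemma eval_pderiv_eq_S (v : (V K)) (i : Fin 3) : eval v (pderiv i f) = 3 * S f v v (Pi.single i 1) := by
  rw [S_comm23 f v v (Pi.single i 1), S_comm12 f v (Pi.single i 1) v, eval_pderiv_eq hf, S]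
  simp only [Pi.single_apply]
  conv_rhs => rw [Finset.sum_eq_single i (fun b _ hb => by simp [hb]) (by simp)]
  simp only [if_pos, one_mul]; ring

omit hf

/-- smoothness in terms of `S` -/
def Smooth (f : MvPolynomial (Fin 3) K) : Prop := ∀ v : (V K), v ≠ 0 → S f v v v = 0 → SL f v v ≠ 0

lemma smooth_of (hf : f.IsHomogeneous 3)
    (hsm : ∀ v : (V K), v ≠ 0 → eval v f = 0 → ∃ i : Fin 3, eval v (pderiv i f) ≠ 0) : Smooth f := by
  intro v hv h hz
  obtain ⟨i, hi⟩ := hsm v hv (by rw [eval_eq_S hf, h])
  apply hi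
  rw [eval_pderiv_eq_S hf, ← SL_apply, hz]; simp
/-- set the variables in `s` to zero -/
noncomputable def kill (s : Finset (Fin 3)) : MvPolynomial (Fin 3) K →ₐ[K] MvPolynomial (Fin 3) K :=
  aeval fun i => if i ∈ s then 0 else X i

omit [CharZero K] in
lemma kill_X (s : Finset (Fin 3)) (i : Fin 3) : kill (K := K) s (X i) = if i ∈ s then 0 else X i :=
  aeval_X _ _

omit [CharZero K] in
lemma ker_kill_lt {s t : Finset (Fin 3)} (h : s ⊂ t) :
    RingHom.ker (kill (K := K) s) < RingHom.ker (kill (K := K) t) := by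
  obtain ⟨hst, hts⟩ := Finset.ssubset_iff_subset_ne.1 h
  obtain ⟨i, hit, his⟩ := Finset.exists_of_ssubset h
  have hc : (kill (K := K) t).comp (kill s) = kill t := by
    refine MvPolynomial.algHom_ext fun j => ?_
    rw [AlgHom.comp_apply, kill_X]
    split_ifs with hj
    · rw [map_zero, kill_X, if_pos (hst hj)]
    · rfl
  refine lt_of_le_of_ne (fun p hp => ?_) fun e => ?_
  · rw [RingHom.mem_ker] at hp ⊢
    rw [← hc, AlgHom.comp_apply, hp, map_zero]
  · have h1 : (X i : MvPolynomial (Fin 3) K) ∈ RingHom.ker (kill (K := K) t) := by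
      rw [RingHom.mem_ker, kill_X, if_pos hit]
    rw [← e, RingHom.mem_ker, kill_X, if_neg his] at h1
    exact X_ne_zero i h1

omit [CharZero K] in
/-- two forms of positive degree in three variables over an algebraically closed field have a common zero -/
theorem exists_common_zero [IsAlgClosed K] {F G : MvPolynomial (Fin 3) K} {m n : ℕ} (hm : m ≠ 0) (hn : n ≠ 0)
    (hF : F.IsHomogeneous m) (hG : G.IsHomogeneous n) :
    ∃ v : V K, v ≠ 0 ∧ eval v F = 0 ∧ eval v G = 0 := by
  classical
  by_contra hne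
  push Not at hne
  let M := RingHom.ker (kill (K := K) {0, 1, 2})
  haveI hMp : M.IsPrime := RingHom.ker_isPrime _
  have hM : ∀ p : MvPolynomial (Fin 3) K, p ∈ M ↔ eval 0 p = 0 := fun p => by
    have h0 : (fun i : Fin 3 => if i ∈ ({0, 1, 2} : Finset (Fin 3)) then (0 : MvPolynomial (Fin 3) K) else X i) = 0 :=
      funext fun i => by fin_cases i <;> simp
    rw [RingHom.mem_ker, kill, h0, aeval_zero, algebraMap_eq, eval_zero, map_eq_zero_iff _ (C_injective _ _)]
  have hMht : (3 : ℕ∞) ≤ M.height := by
    haveI := RingHom.ker_isPrime (kill (K := K) ∅)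
    haveI := RingHom.ker_isPrime (kill (K := K) {0})
    haveI := RingHom.ker_isPrime (kill (K := K) {0, 1})
    have a1 := Ideal.height_add_one_le_of_lt_of_isPrime (ker_kill_lt (K := K) (s := ∅) (t := {0}) (by decide))
    have a2 := Ideal.height_add_one_le_of_lt_of_isPrime (ker_kill_lt (K := K) (s := {0}) (t := {0, 1}) (by decide))
    have a3 := Ideal.height_add_one_le_of_lt_of_isPrime (ker_kill_lt (K := K) (s := {0, 1}) (t := {0, 1, 2}) (by decide))
    calc (3 : ℕ∞) = 0 + 1 + 1 + 1 := by norm_num
      _ ≤ M.height := le_trans (add_le_add (add_le_add (le_trans (add_le_add zero_le le_rfl) a1) le_rfl |>.trans a2) le_rfl) a3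
  let J := Ideal.span ({F, G} : Set (MvPolynomial (Fin 3) K))
  have hev0 : ∀ {d : ℕ} {p : MvPolynomial (Fin 3) K}, d ≠ 0 → p.IsHomogeneous d → eval 0 p = 0 := by
    intro d p hd hp
    rw [eval_zero, constantCoeff_eq]
    exact hp.coeff_eq_zero (by simpa using Ne.symm hd)
  have hJM : J ≤ M := Ideal.span_le.2 (by
    rintro p (rfl | rfl)
    · exact (hM _).2 (hev0 hm hF)
    · exact (hM _).2 (hev0 hn hG))
  obtain ⟨P, hP, hPM⟩ := Ideal.exists_minimalPrimes_le hJM
  haveI := hP.isPrime
  have hPht : P.height ≤ 2 := by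
    refine (Ideal.height_le_spanRank_toENat_of_mem_minimalPrimes J P hP).trans ?_
    have h1 := Submodule.spanRank_span_le_card (R := MvPolynomial (Fin 3) K) ({F, G} : Set (MvPolynomial (Fin 3) K))
    have h2 : Cardinal.mk ({F, G} : Set (MvPolynomial (Fin 3) K)) ≤ 2 :=
      (Cardinal.mk_insert_le).trans (le_of_eq (by rw [Cardinal.mk_singleton]; norm_num))
    exact le_trans (OrderHomClass.mono Cardinal.toENat (h1.trans h2)) (by simp)
  have hMP : M ≤ P := by
    intro p hp
    have hrad : p ∈ P.radical := by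
      rw [← vanishingIdeal_zeroLocus_eq_radical (K := K)]
      intro v hv
      obtain rfl : v = 0 := by
        by_contra hv0
        have hF' : eval v F = 0 := by
          have := hv F (hP.le (Ideal.subset_span (by simp)))
          rwa [← aeval_eq_eval] at *
        have hG' : eval v G = 0 := by
          have := hv G (hP.le (Ideal.subset_span (by simp)))
          rwa [← aeval_eq_eval] at *
        exact hne v hv0 hF' hG'
      have := (hM p).1 hp
      rwa [← aeval_eq_eval] at this
    rwa [hP.isPrime.radical] at hrad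
  obtain rfl : P = M := le_antisymm hPM hMP
  exact absurd (hMht.trans hPht) (by norm_num)

/-- a flex -/
def Flex (f : MvPolynomial (Fin 3) K) (v : V K) : Prop :=
  v ≠ 0 ∧ S f v v v = 0 ∧ ∃ w : V K, LinearIndependent K ![v, w] ∧ S f v v w = 0 ∧ S f v w w = 0

/-- the Hessian form -/
noncomputable def hess (f : MvPolynomial (Fin 3) K) : MvPolynomial (Fin 3) K :=
  (Matrix.of fun i j => pderiv j (pderiv i f)).det

section
include hf

lemma eval_add_smul (v w : V K) (t : K) : eval (v + t • w) f =
    S f v v v + 3 * t * S f v v w + 3 * t ^ 2 * S f v w w + t ^ 3 * S f w w w := by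
  rw [eval_eq_S hf]
  simp only [S_add1, S_add2, S_add3, S_smul1, S_smul2, S_smul3]
  rw [S_comm23 f v w v, S_comm12 f w v v, S_comm23 f v w v, S_comm12 f w v w, S_comm23 f w w v, S_comm12 f w v w]
  ring

lemma flex_iff (v : V K) : Flex f v ↔ v ≠ 0 ∧ eval v f = 0 ∧
    ∃ w : V K, LinearIndependent K ![v, w] ∧ ∀ t : K, eval (v + t • w) f = t ^ 3 * eval w f := by
  unfold Flex
  rw [eval_eq_S hf]
  refine and_congr_right fun _ => and_congr_right fun h0 => exists_congr fun w => and_congr_right fun _ => ?_
  refine ⟨fun h t => by rw [eval_add_smul hf, eval_eq_S hf w, h0, h.1, h.2]; ring, fun h => ?_⟩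
  have h1 := h 1
  have h2 := h (-1)
  rw [eval_add_smul hf, eval_eq_S hf w, h0] at h1 h2
  constructor
  · linear_combination (h1 - h2) / 6
  · linear_combination (h1 + h2) / 6

lemma hess_isHomogeneous : (hess f).IsHomogeneous 3 := by
  rw [hess, Matrix.det_fin_three]
  have h : ∀ i j, (pderiv j (pderiv i f)).IsHomogeneous 1 := fun i j => hf.pderiv.pderiv
  simp only [Matrix.of_apply]
  refine ((((((h _ _).mul (h _ _)).mul (h _ _)).sub (((h _ _).mul (h _ _)).mul (h _ _))).sub
    (((h _ _).mul (h _ _)).mul (h _ _))).add (((h _ _).mul (h _ _)).mul (h _ _))).add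
    (((h _ _).mul (h _ _)).mul (h _ _)) |>.sub (((h _ _).mul (h _ _)).mul (h _ _))

lemma eval_pderiv2 (v : V K) (i j : Fin 3) :
    eval v (pderiv j (pderiv i f)) = 6 * S f v (Pi.single i 1) (Pi.single j 1) := by
  have := congrArg (eval v) ((hf.pderiv (i := i)).pderiv (i := j)).sum_X_mul_pderiv
  simp only [map_sum, map_mul, eval_X, c3_const hf] at this
  have h2 : eval v (pderiv j (pderiv i f)) = ∑ k, v k * c3 f i j k := by simpa using this.symm
  rw [h2, S_comm12 f v, S_comm23 f _ v, S]
  simp [Pi.single_apply]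

lemma mulVec_hess (v u : V K) (i : Fin 3) :
    (Matrix.of fun a b => eval v (pderiv b (pderiv a f))).mulVec u i = 6 * S f v u (Pi.single i 1) := by
  have hu : u = ∑ j, u j • (Pi.single j 1 : V K) := by
    funext j; simp [Pi.single_apply]
  have hsum : ∀ x y : V K, S f x y u = ∑ j, u j * S f x y (Pi.single j 1) := fun x y => by
    conv_lhs => rw [hu, ← SL_apply, map_sum]
    simp
  rw [S_comm23 f v u, hsum, Finset.mul_sum]
  simp only [Matrix.mulVec, dotProduct, Matrix.of_apply, eval_pderiv2 hf]
  exact Finset.sum_congr rfl fun j _ => by ring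

lemma eval_hess (v : V K) :
    eval v (hess f) = (Matrix.of fun i j => eval v (pderiv j (pderiv i f))).det := by
  rw [hess, RingHom.map_det]; rfl

lemma flex_of_hess (hsm : Smooth f) {v : V K} (hv : v ≠ 0) (h0 : S f v v v = 0) (hH : eval v (hess f) = 0) :
    Flex f v := by
  rw [eval_hess hf] at hH
  obtain ⟨u, hu, hMu⟩ := Matrix.exists_mulVec_eq_zero_iff.2 hH
  have hS : ∀ z, S f v u z = 0 := fun z => by
    have h1 : ∀ i, S f v u (Pi.single i 1) = 0 := fun i => by
      have := congrFun hMu i
      rw [mulVec_hess hf] at this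
      simpa using this
    have hz : z = ∑ j, z j • (Pi.single j 1 : V K) := by funext j; simp [Pi.single_apply]
    rw [hz, ← SL_apply, map_sum]
    simp [h1]
  refine ⟨hv, h0, u, ?_, by rw [S_comm23]; exact hS v, hS u⟩
  rw [linearIndependent_fin2]
  refine ⟨hu, fun a ha => hsm v hv h0 (LinearMap.ext fun z => ?_)⟩
  simp only [Matrix.cons_val_one, Matrix.cons_val_zero] at ha
  change S f v v z = 0
  conv_lhs => arg 3; rw [← ha]
  rw [S_smul2, hS z, mul_zero]

theorem exists_flex [IsAlgClosed K] (hsm : Smooth f) : ∃ v, Flex f v := by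
  obtain ⟨v, hv, h1, h2⟩ := exists_common_zero (by norm_num) (by norm_num) hf (hess_isHomogeneous hf)
  exact ⟨v, flex_of_hess hf hsm hv (by rw [← eval_eq_S hf]; exact h1) h2⟩

end

end Groth.Agent.PlaneCubic
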