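import Groth.Agent.PlaneCubic.Aut
import Mathlib.Analysis.Complex.Polynomial.Basic
import Mathlib.GroupTheory.Perm.Sign

/-! Projective automorphisms of a generic Hesse cubic. -/

namespace Groth.Agent.PlaneCubic
open MvPolynomial

variable {K : Type*} [Field K] [CharZero K]

/-- genericity of the parameter -/
def Generic (k : K) : Prop := k ≠ 0 ∧ k ^ 3 ≠ 1 ∧ k ^ 3 ≠ -8 ∧ 8 + 20 * k ^ 3 - k ^ 6 ≠ 0

/-- exchange the last two coordinates -/
def swap12 : Equiv.Perm (Fin 3) := Equiv.swap 1 2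

set_option maxHeartbeats 1000000 in
theorem stabilizer {k : K} (hk : Generic k) (B : V K →ₗ[K] V K) (hB : Function.Injective B) {l : K}
    (hBl : ∀ x, hval k (B x) = l * hval k x) {δ : K} (hO : B ![0, 1, -1] = δ • ![0, 1, -1]) :
    ∃ (μ : K) (σ : Equiv.Perm (Fin 3)), ∀ x r, B x r = μ * x (σ r) := by
  obtain ⟨hk0, hk1, hk8, hke⟩ := hk
  have ha : (1 - k ^ 3) ≠ 0 := fun h => hk1 (by linear_combination -h)
  set a : K := 1 - k ^ 3 with hadef
  set g : K := 3 * k ^ 2 / (4 * a) with hg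
  set c' : K := -(3 * k * (8 + k ^ 3)) / (16 * a) with hc'
  set e' : K := (8 + 20 * k ^ 3 - k ^ 6) / (32 * a ^ 2) with he'
  let G : V K → K := fun c => a * c 0 ^ 3 + c' * c 0 * c 1 ^ 2 + e' * c 1 ^ 3 + 3 / 4 * c 1 * c 2 ^ 2
  let Ψ : V K →ₗ[K] V K :=
    { toFun := fun x => ![x 0 + g * (k * x 0 + x 1 + x 2), k * x 0 + x 1 + x 2, x 1 - x 2]
      map_add' := fun x y => by funext i; fin_cases i <;> simp <;> ring
      map_smul' := fun r x => by funext i; fin_cases i <;> simp <;> ring }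
  let Ψ' : V K →ₗ[K] V K :=
    { toFun := fun c => ![c 0 - g * c 1, (c 1 - k * (c 0 - g * c 1) + c 2) / 2, (c 1 - k * (c 0 - g * c 1) - c 2) / 2]
      map_add' := fun x y => by funext i; fin_cases i <;> simp <;> ring
      map_smul' := fun r x => by funext i; fin_cases i <;> simp <;> ring }
  have hΨ : ∀ c, Ψ (Ψ' c) = c := fun c => by funext i; fin_cases i <;> simp [Ψ, Ψ'] <;> ring
  have hΨ' : ∀ x, Ψ' (Ψ x) = x := fun x => by funext i; fin_cases i <;> simp [Ψ, Ψ'] <;> ring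
  have hG : ∀ x, hval k x = G (Ψ x) := fun x => by
    simp only [hval, G, Ψ, LinearMap.coe_mk, AddHom.coe_mk, Matrix.cons_val, hg, hc', he']
    field_simp
    rw [hadef]
    ring
  let B' : V K →ₗ[K] V K := Ψ ∘ₗ B ∘ₗ Ψ'
  have hB'i : Function.Injective B' := (Function.LeftInverse.injective hΨ').comp (hB.comp (Function.LeftInverse.injective hΨ))
  have hGB : ∀ c, G (B' c) = l * G c := fun c => by
    change G (Ψ (B (Ψ' c))) = _
    rw [← hG, hBl, hG, hΨ]
  have hd : B' ![0, 0, 1] = δ • ![0, 0, 1] := by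
    have e1 : Ψ' ![0, 0, 1] = (1 / 2 : K) • ![0, 1, -1] := by funext i; fin_cases i <;> simp [Ψ']; ring
    change Ψ (B (Ψ' _)) = _
    rw [e1, map_smul, hO, map_smul, map_smul]
    funext i; fin_cases i <;> simp [Ψ]; ring
  obtain ⟨β, α', ε, hU⟩ : ∃ p q r, B' ![1, 0, 0] = ![p, q, r] :=
    ⟨B' ![1, 0, 0] 0, B' ![1, 0, 0] 1, B' ![1, 0, 0] 2, funext fun i => by fin_cases i <;> rfl⟩
  obtain ⟨γ, α, ζ, ht⟩ : ∃ p q r, B' ![0, 1, 0] = ![p, q, r] :=
    ⟨B' ![0, 1, 0] 0, B' ![0, 1, 0] 1, B' ![0, 1, 0] 2, funext fun i => by fin_cases i <;> rfl⟩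
  have hform : ∀ c, B' c = ![β * c 0 + γ * c 1, α' * c 0 + α * c 1, ε * c 0 + ζ * c 1 + δ * c 2] := fun c => by
    have e : c = c 0 • ![1, 0, 0] + c 1 • ![0, 1, 0] + c 2 • ![0, 0, 1] := by funext i; fin_cases i <;> simp
    conv_lhs => rw [e, map_add, map_add, map_smul, map_smul, map_smul, hU, ht, hd]
    funext i; fin_cases i <;> simp <;> ring
  have hδ : δ ≠ 0 := by
    rintro rfl
    have := congrFun (hB'i (hd.trans (by rw [zero_smul, map_zero]) : B' ![0, 0, 1] = B' 0)) 2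
    simp at this
  have E := fun p q r : K => hGB ![p, q, r]
  simp only [hform, G, Matrix.cons_val] at E
  have hα' : α' = 0 := by
    have : α' * δ ^ 2 = 0 := by linear_combination (E 1 0 1 + E 1 0 (-1) - 2 * E 1 0 0) * (2 / 3)
    simpa [hδ] using this
  subst hα'
  have h1 : β ^ 3 = l := mul_left_cancel₀ ha (by linear_combination E 1 0 0)
  have hβ : β ≠ 0 := by
    rintro rfl
    have h2 := hB'i (a₁ := ![1, 0, 0]) (a₂ := (ε / δ) • ![0, 0, 1]) (by
      rw [map_smul, hU, hd]; funext i; fin_cases i <;> simp; field_simp)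
    have := congrFun h2 0
    simp at this
  have hl : l ≠ 0 := h1 ▸ pow_ne_zero 3 hβ
  have hαδ : α * δ ^ 2 = l := by linear_combination (E 0 1 1 + E 0 1 (-1) - 2 * E 0 1 0) * (2 / 3)
  have hα : α ≠ 0 := by rintro rfl; exact hl (by rw [← hαδ, zero_mul])
  have hζ : ζ = 0 := by
    have : α * δ * ζ = 0 := by linear_combination (E 0 1 1 - E 0 1 (-1)) / 3
    simpa [hδ, hα] using this
  subst hζ
  have hε : ε = 0 := by
    have : α * δ * ε = 0 := by linear_combination (E 1 1 1 - E 1 1 (-1)) / 3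
    simpa [hδ, hα] using this
  subst hε
  have hγ : γ = 0 := by
    have : a * β ^ 2 * γ = 0 := by linear_combination (E 1 1 0 - E 1 (-1) 0 - 2 * E 0 1 0) / 6
    simpa [ha, hβ] using this
  subst hγ
  have he0 : e' ≠ 0 := div_ne_zero hke (mul_ne_zero (by norm_num) (pow_ne_zero 2 ha))
  have hc0 : c' ≠ 0 := by
    refine div_ne_zero (neg_ne_zero.2 (mul_ne_zero (mul_ne_zero three_ne_zero hk0) fun h => hk8 (by linear_combination h))) ?_
    exact mul_ne_zero (by norm_num) ha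
  have h3 : α ^ 3 = l := mul_left_cancel₀ he0 (by linear_combination E 0 1 0)
  have h4 : α ^ 2 * β = l := mul_left_cancel₀ hc0
    (by linear_combination (E 1 1 0 + E 1 (-1) 0 - 2 * E 1 0 0) / 2)
  obtain rfl : β = α := mul_left_cancel₀ (pow_ne_zero 2 hα) (by linear_combination h4 - h3)
  have h5 : (δ - β) * (δ + β) = 0 := mul_left_cancel₀ hα (by linear_combination hαδ - h3)
  have hBx : ∀ x, B x = Ψ' (B' (Ψ x)) := fun x => by
    change B x = Ψ' (Ψ (B (Ψ' (Ψ x))))
    rw [hΨ', hΨ']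
  rcases mul_eq_zero.1 h5 with h | h
  · refine ⟨β, 1, fun x r => ?_⟩
    rw [hBx, hform, sub_eq_zero.1 h]
    fin_cases r <;> simp [Ψ, Ψ'] <;> ring
  · refine ⟨β, swap12, fun x r => ?_⟩
    rw [hBx, hform, eq_neg_of_add_eq_zero_left h]
    fin_cases r <;> simp [Ψ, Ψ', swap12, Equiv.swap_apply_of_ne_of_ne] <;> ring

section complex

/-- automorphisms of a generic Hesse cubic are monomial -/
theorem monomial_of_aut {k : ℂ} (hk : Generic k) (A : Matrix (Fin 3) (Fin 3) ℂ) (hA : A.det ≠ 0) {l : ℂ}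
    (hAl : ∀ x, hval k (A.mulVec x) = l * hval k x) :
    ∃ (π : Equiv.Perm (Fin 3)) (u : Fin 3 → ℂ), ∀ x r, A.mulVec x r = u r * x (π r) := by
  have hinj : Function.Injective A.mulVec := Matrix.mulVec_injective_iff_isUnit.2
    ((Matrix.isUnit_iff_isUnit_det A).2 (isUnit_iff_ne_zero.2 hA))
  have hl : l ≠ 0 := by
    rintro rfl
    obtain ⟨x, hx⟩ := (LinearMap.injective_iff_surjective (f := Matrix.toLin' A)).1 hinj ![1, 0, 0]
    have := hAl x
    rw [show A.mulVec x = ![1, 0, 0] from hx] at this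
    simp [hval] at this
  set Q := A.mulVec ![0, 1, -1] with hQ
  have hflex : EFlex (HesseCubic.form k) Q := EFlex.map (Matrix.toLin' A) hinj hl
    (fun x => by rw [eval_form, eval_form]; exact hAl x) (flexPoint_eflex hk.2.1 (γ := 1) (by norm_num)).1
  have hQ0 : Q ≠ 0 := hflex.1
  have hQh : hval k Q = 0 := by rw [← eval_form]; exact hflex.2.1
  have hxyz := (eflex_form_iff hk.2.1 hQ0 hflex.2.1).1 hflex
  -- a cyclic shift moves `Q` to the line `X₀ = 0`
  obtain ⟨σ, hσ, hσ0⟩ : ∃ σ : Equiv.Perm (Fin 3), (∀ y : V ℂ, hval k (fun r => y (σ r)) = hval k y) ∧ Q (σ 0) = 0 := by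
    rcases mul_eq_zero.1 hxyz with h | h
    · rcases mul_eq_zero.1 h with h | h
      · exact ⟨1, fun y => rfl, h⟩
      · refine ⟨Equiv.swap 0 1, fun y => ?_, by simpa using h⟩
        simp [hval, Equiv.swap_apply_of_ne_of_ne]; ring
    · refine ⟨Equiv.swap 0 2, fun y => ?_, by simpa using h⟩
      simp [hval, Equiv.swap_apply_of_ne_of_ne]; ring
  obtain ⟨γ, c, hγ, hc, hcQ⟩ := eq_flexPoint (k := k) (v := fun r => Q (σ r))
    (fun h => hQ0 (funext fun r => by simpa using congrFun h (σ.symm r))) hσ0 (by rw [hσ, hQh])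
  have hγ0 : γ ≠ 0 := fun h => by rw [h] at hγ; norm_num at hγ
  let d : V ℂ := ![1, γ ^ 2, γ]
  have hd : ∀ r, d r ≠ 0 := fun r => by fin_cases r <;> simp [d, hγ0]
  let T : V ℂ →ₗ[ℂ] V ℂ :=
    { toFun := fun y r => d r * y (σ r)
      map_add' := fun x y => by funext r; simp [mul_add]
      map_smul' := fun s x => by funext r; simp only [Pi.smul_apply, smul_eq_mul, RingHom.id_apply]; ring }
  have hTi : Function.Injective T := fun x y h => funext fun r => by
    have h' : d (σ.symm r) * x (σ (σ.symm r)) = d (σ.symm r) * y (σ (σ.symm r)) := congrFun h (σ.symm r)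
    rw [Equiv.apply_symm_apply] at h'
    exact mul_left_cancel₀ (hd _) h'
  have hTh : ∀ y, hval k (T y) = hval k y := fun y => by
    rw [← hσ y]
    simp only [hval, T, d, LinearMap.coe_mk, AddHom.coe_mk, Matrix.cons_val]
    linear_combination ((γ ^ 3 + 1) * (y (σ 1)) ^ 3 + (y (σ 2)) ^ 3 - 3 * k * (y (σ 0) * y (σ 1) * y (σ 2))) * hγ
  obtain ⟨μ, τ, hτ⟩ := stabilizer hk (T ∘ₗ Matrix.toLin' A) (hTi.comp hinj) (l := l)
    (fun x => (hTh _).trans (hAl x)) (δ := c * γ ^ 2) (by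
      change T Q = _
      funext r
      have e := congrFun hcQ r
      fin_cases r
      · simp [T, d, hσ0]
      · simp [T, d] at e ⊢; rw [e]; ring
      · simp [T, d] at e ⊢; rw [e]; ring)
  refine ⟨σ.symm.trans τ, fun r => μ / d (σ.symm r), fun x r => ?_⟩
  have h : d (σ.symm r) * A.mulVec x (σ (σ.symm r)) = μ * x (τ (σ.symm r)) := hτ x (σ.symm r)
  rw [Equiv.apply_symm_apply] at h
  rw [Equiv.trans_apply, div_mul_eq_mul_div, eq_div_iff (hd _), mul_comm (A.mulVec x r), h]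

end complex

end Groth.Agent.PlaneCubic
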