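import Groth.Agent.PlaneCubic.Basic
import Groth.Prelude.Def_W4c5monodromycubicsHesse

/-! Weierstrass and Hesse normal forms of smooth plane cubics. -/

namespace Groth.Agent.PlaneCubic
open MvPolynomial

variable {K : Type*} [Field K] [CharZero K] {f : MvPolynomial (Fin 3) K}

/-- value of the Hesse form -/
def hval (k : K) (c : V K) : K := c 0 ^ 3 + c 1 ^ 3 + c 2 ^ 3 - 3 * k * (c 0 * c 1 * c 2)

lemma eval_form (k : K) (c : V K) : eval c (HesseCubic.form k) = hval k c := by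
  simp [HesseCubic.form, hval]

variable (hf : f.IsHomogeneous 3)
include hf

lemma not_double (hsm : Smooth f) {P : V K} (hP : P ≠ 0)
    (h : ∀ r, ∃ b c : K, ∀ t : K, eval (P + t • r) f = t ^ 2 * (b + c * t)) : False := by
  have h0 : S f P P P = 0 := by
    obtain ⟨b, c, hb⟩ := h 0
    have := hb 0
    rw [← eval_eq_S hf]
    simpa using this
  refine hsm P hP h0 (LinearMap.ext fun r => ?_)
  obtain ⟨b, c, hb⟩ := h r
  change S f P P r = 0
  have e1 := hb 1
  have e2 := hb (-1)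
  have e3 := hb 2
  have e4 := hb (-2)
  rw [eval_add_smul hf, h0] at e1 e2 e3 e4
  linear_combination (8 * (e1 - e2) - (e3 - e4)) / 36

/-- Weierstrass normal form at a flex -/
theorem exists_weierstrass [IsAlgClosed K] (hsm : Smooth f) {v : V K} (hv : Flex f v) :
    ∃ (L : V K ≃ₗ[K] V K) (a p q e : K), a ≠ 0 ∧ e ≠ 0 ∧ L ![0, 1, 0] = v ∧
      ∀ c, eval (L c) f = a * c 0 ^ 3 + a * p * c 0 * c 2 ^ 2 + a * q * c 2 ^ 3 + e * c 1 ^ 2 * c 2 := by
  obtain ⟨hv0, h0, w, hli, h1, h2⟩ := hv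
  obtain ⟨u, hu⟩ : ∃ u, S f v v u ≠ 0 := by
    by_contra hne
    push Not at hne
    exact hsm v hv0 h0 (LinearMap.ext fun z => hne z)
  -- adjust the flex direction
  set w' : V K := w + (-(S f v w u / S f v v u)) • v with hw'
  have a1 : S f v v w' = 0 := by rw [hw', S_add3, S_smul3, h1, h0]; ring
  have a2 : S f v w' w' = 0 := by
    rw [hw']; simp only [S_add2, S_add3, S_smul2, S_smul3, h1, h2, h0, S_comm23 f v w v]; ring
  have a3 : S f v w' u = 0 := by
    rw [hw', S_add2, S_smul2]; field_simp; ring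
  have hli' : ∀ α β : K, α • v + β • w' = 0 → α = 0 ∧ β = 0 := by
    intro α β h
    have := LinearIndependent.pair_iff.1 hli (α + β * -(S f v w u / S f v v u)) β (by
      rw [← h, hw']; module)
    obtain ⟨e1, e2⟩ := this
    exact ⟨by simpa [e2] using e1, e2⟩
  have hind : ∀ {u' : V K}, S f v v u' ≠ 0 → ∀ c : V K, c 0 • w' + c 1 • v + c 2 • u' = 0 → c = 0 := by
    intro u' hu' c hc
    have h := congrArg (SL f v v) hc
    simp only [map_add, map_smul, map_zero, SL_apply, a1, h0, smul_eq_mul, mul_zero, zero_add] at h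
    have hc2 : c 2 = 0 := (mul_eq_zero.1 h).resolve_right hu'
    rw [hc2, zero_smul, add_zero, add_comm] at hc
    obtain ⟨e1, e2⟩ := hli' _ _ hc
    funext i; fin_cases i <;> assumption
  have ha : S f w' w' w' ≠ 0 := by
    intro ha
    obtain ⟨τ, hτ⟩ := IsAlgClosed.exists_root
      (Polynomial.C (S f v v u) * Polynomial.X ^ 2 + Polynomial.C (2 * S f v w' u) * Polynomial.X + Polynomial.C (S f w' w' u))
      (by rw [Polynomial.degree_quadratic hu]; decide)
    simp only [Polynomial.IsRoot.def, Polynomial.eval_add, Polynomial.eval_mul, Polynomial.eval_pow,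
      Polynomial.eval_C, Polynomial.eval_X] at hτ
    set P : V K := τ • v + w' with hP
    have hP0 : P ≠ 0 := fun h => one_ne_zero (hli' τ 1 (by rw [one_smul, ← hP, h])).2
    have hz : ∀ z, S f P P z = τ ^ 2 * S f v v z + 2 * τ * S f v w' z + S f w' w' z := fun z => by
      rw [hP]; simp only [S_add1, S_add2, S_smul1, S_smul2, S_comm12 f w' v z]; ring
    have hPv : S f P P v = 0 := by
      rw [hz, h0, S_comm23 f v w' v, a1, S_comm23 f w' w' v, S_comm12 f w' v w', a2]; ring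
    have hPw : S f P P w' = 0 := by rw [hz, a1, a2, ha]; ring
    have hPu : S f P P u = 0 := by rw [hz]; linear_combination hτ
    have hPP : S f P P P = 0 := by
      conv_lhs => arg 4; rw [hP]
      rw [S_add3, S_smul3, hPv, hPw]; ring
    refine hsm P hP0 hPP (LinearMap.ext fun z => ?_)
    have hfull : ∃ c : V K, c 0 • w' + c 1 • v + c 2 • u = z := by
      let T : V K →ₗ[K] V K :=
        { toFun := fun c => c 0 • w' + c 1 • v + c 2 • u
          map_add' := fun c d => by simp only [Pi.add_apply]; module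
          map_smul' := fun r c => by simp only [Pi.smul_apply, smul_eq_mul, RingHom.id_apply]; module }
      exact (LinearMap.injective_iff_surjective (f := T)).1
        ((injective_iff_map_eq_zero T).2 fun c hc => hind hu c hc) z
    obtain ⟨c, rfl⟩ := hfull
    change S f P P _ = 0
    simp only [S_add3, S_smul3, hPv, hPw, hPu]; ring
  -- adjust the third vector
  set u1 : V K := u + (-(S f w' w' u / S f w' w' w')) • w' with hu1
  have b1 : S f v v u1 = S f v v u := by rw [hu1, S_add3, S_smul3, a1]; ring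
  have b2 : S f v w' u1 = 0 := by rw [hu1, S_add3, S_smul3, a3, a2]; ring
  have b3 : S f w' w' u1 = 0 := by rw [hu1, S_add3, S_smul3]; field_simp; ring
  set u2 : V K := u1 + (-(S f v u1 u1 / (2 * S f v v u))) • v with hu2
  have c1 : S f v v u2 = S f v v u := by rw [hu2, S_add3, S_smul3, h0, b1]; ring
  have c2 : S f v w' u2 = 0 := by rw [hu2, S_add3, S_smul3, b2, S_comm23 f v w' v, a1]; ring
  have c3' : S f w' w' u2 = 0 := by
    rw [hu2, S_add3, S_smul3, b3, S_comm23 f w' w' v, S_comm12 f w' v w', a2]; ring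
  have c4 : S f v u2 u2 = 0 := by
    rw [hu2]; simp only [S_add2, S_add3, S_smul2, S_smul3, h0, S_comm23 f v u1 v, b1]; field_simp; ring
  let T : V K →ₗ[K] V K :=
    { toFun := fun c => c 0 • w' + c 1 • v + c 2 • u2
      map_add' := fun c d => by simp only [Pi.add_apply]; module
      map_smul' := fun r c => by simp only [Pi.smul_apply, smul_eq_mul, RingHom.id_apply]; module }
  let L := LinearEquiv.ofInjectiveEndo T ((injective_iff_map_eq_zero T).2 fun c hc => hind (c1.symm ▸ hu) c hc)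
  refine ⟨L, S f w' w' w', 3 * S f w' u2 u2 / S f w' w' w', S f u2 u2 u2 / S f w' w' w', 3 * S f v v u,
    ha, mul_ne_zero three_ne_zero hu, ?_, fun c => ?_⟩
  · change (0 : K) • w' + (1 : K) • v + (0 : K) • u2 = v
    module
  · rw [eval_eq_S hf]
    change S f (c 0 • w' + c 1 • v + c 2 • u2) (c 0 • w' + c 1 • v + c 2 • u2) (c 0 • w' + c 1 • v + c 2 • u2) = _
    simp only [S_add1, S_add2, S_add3, S_smul1, S_smul2, S_smul3]
    have p1 : S f v w' v = 0 := by rw [S_comm23, a1]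
    have p2 : S f w' v v = 0 := by rw [S_comm12, p1]
    have p3 : S f w' v w' = 0 := by rw [S_comm12, a2]
    have p4 : S f w' w' v = 0 := by rw [S_comm23, p3]
    have p5 : S f v u2 w' = 0 := by rw [S_comm23, c2]
    have p6 : S f w' v u2 = 0 := by rw [S_comm12, c2]
    have p7 : S f w' u2 v = 0 := by rw [S_comm23, p6]
    have p8 : S f u2 v w' = 0 := by rw [S_comm12, p5]
    have p9 : S f u2 w' v = 0 := by rw [S_comm23, p8]
    have p10 : S f w' u2 w' = 0 := by rw [S_comm23, c3']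
    have p11 : S f u2 w' w' = 0 := by rw [S_comm12, p10]
    have p12 : S f v u2 v = S f v v u := by rw [S_comm23, c1]
    have p13 : S f u2 v v = S f v v u := by rw [S_comm12, p12]
    have p14 : S f u2 v u2 = 0 := by rw [S_comm12, c4]
    have p15 : S f u2 u2 v = 0 := by rw [S_comm23, p14]
    have p16 : S f u2 w' u2 = S f w' u2 u2 := by rw [S_comm12]
    have p17 : S f u2 u2 w' = S f w' u2 u2 := by rw [S_comm23, p16]
    simp only [h0, a1, a2, c1, c2, c3', c4, p1, p2, p3, p4, p5, p6, p7, p8, p9, p10, p11, p12, p13, p14, p15, p16, p17]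
    field_simp
    ring

/-- Hesse form from two flexes in Weierstrass coordinates -/
theorem exists_hesse_of_weierstrass [IsAlgClosed K] (hsm : Smooth f) (L : V K ≃ₗ[K] V K) {a p q e : K}
    (ha : a ≠ 0) (he : e ≠ 0)
    (hW : ∀ c, eval (L c) f = a * c 0 ^ 3 + a * p * c 0 * c 2 ^ 2 + a * q * c 2 ^ 3 + e * c 1 ^ 2 * c 2)
    {x₀ y₀ m : K} (C0 : a * (x₀ ^ 3 + p * x₀ + q) + e * y₀ ^ 2 = 0)
    (C1 : a * (3 * x₀ ^ 2 + p) + 2 * e * y₀ * m = 0) (C2 : 3 * a * x₀ + e * m ^ 2 = 0) :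
    ∃ (Φ : V K ≃ₗ[K] V K) (k : K), k ^ 3 ≠ 1 ∧ (∀ x, eval x f = hval k (Φ x)) ∧
      Φ (L ![0, 1, 0]) 0 = 0 ∧ Φ (L ![x₀, y₀, 1]) 0 = 0 := by
  have hy : y₀ ≠ 0 := by
    rintro rfl
    have hp : p = -(3 * x₀ ^ 2) := mul_left_cancel₀ ha (by linear_combination C1)
    have hq : q = 2 * x₀ ^ 3 := mul_left_cancel₀ ha (by subst hp; linear_combination C0)
    subst hp hq
    refine not_double hf hsm (P := L ![x₀, 0, 1]) (fun h => ?_) fun r => ?_
    · have := congrFun (L.map_eq_zero_iff.1 h) 2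
      simp at this
    obtain ⟨r, rfl⟩ := L.surjective r
    refine ⟨a * (r 0 - x₀ * r 2) ^ 2 * (3 * x₀) + e * r 1 ^ 2,
      a * (r 0 - x₀ * r 2) ^ 2 * (r 0 + 2 * x₀ * r 2) + e * r 1 ^ 2 * r 2, fun t => ?_⟩
    rw [← map_smul, ← map_add, hW]
    simp only [Pi.add_apply, Pi.smul_apply, smul_eq_mul, Matrix.cons_val]
    ring
  have hey : e * y₀ ^ 2 ≠ 0 := mul_ne_zero he (pow_ne_zero 2 hy)
  obtain ⟨ρ, hρ⟩ := IsAlgClosed.exists_pow_nat_eq (-1 / (108 * (e * y₀ ^ 2))) (show 0 < 3 by norm_num)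
  have hρ0 : ρ ≠ 0 := by
    rintro rfl
    rw [zero_pow three_ne_zero, eq_comm, div_eq_zero_iff] at hρ
    rcases hρ with h | h
    · norm_num at h
    · exact mul_ne_zero (by norm_num) hey h
  have hρ' : ρ ^ 3 * (108 * (e * y₀ ^ 2)) = -1 := by rw [hρ, div_mul_cancel₀ _ (mul_ne_zero (by norm_num) hey)]
  set κ : K := 12 * e * y₀ * m * ρ ^ 2 with hκ
  obtain ⟨μ, hμ⟩ := IsAlgClosed.exists_pow_nat_eq (a + κ ^ 3) (show 0 < 3 by norm_num)
  obtain ⟨σ, hσ⟩ := IsAlgClosed.exists_pow_nat_eq (e * ρ) (show 0 < 2 by norm_num)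
  have hσ0 : σ ≠ 0 := by
    rintro rfl
    rw [zero_pow two_ne_zero] at hσ
    exact mul_ne_zero he hρ0 hσ.symm
  -- the new coordinates
  let U : V K → K := fun c => c 0 - x₀ * c 2
  let Pc : V K → K := fun c => (c 2 / ρ - 3 * κ * U c) / 6
  have key : ∀ c : V K, eval (L c) f =
      (μ * U c) ^ 3 + (Pc c + σ * c 1) ^ 3 + (Pc c - σ * c 1) ^ 3 -
        3 * κ * (U c * (Pc c + σ * c 1) * (Pc c - σ * c 1)) := fun c => by
    rw [hW]
    simp only [U, Pc]
    obtain ⟨c0, c1, c2, rfl⟩ : ∃ a b d, c = ![a, b, d] := ⟨c 0, c 1, c 2, funext fun i => by fin_cases i <;> rfl⟩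
    simp only [Matrix.cons_val]
    have i1 : 1 / (108 * ρ ^ 3) + e * y₀ ^ 2 = 0 := by field_simp; linear_combination hρ'
    have i2 : κ / (6 * ρ ^ 2) - 2 * e * y₀ * m = 0 := by rw [hκ]; field_simp; ring
    have i3 : 3 * κ ^ 2 / (4 * ρ) + e * m ^ 2 = 0 := by
      rw [hκ]; field_simp; linear_combination (4 * e * m ^ 2) * hρ'
    linear_combination (c0 - x₀ * c2) ^ 2 * c2 * C2 + (c0 - x₀ * c2) * c2 ^ 2 * C1 + c2 ^ 3 * C0
      - c2 ^ 3 * i1 + (c0 - x₀ * c2) * c2 ^ 2 * i2 - (c0 - x₀ * c2) ^ 2 * c2 * i3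
      - (c0 - x₀ * c2) ^ 3 * hμ - c2 / ρ * c1 ^ 2 * hσ + (c2 * c1 ^ 2 * e) * (mul_inv_cancel₀ hρ0).symm
  by_cases hμ0 : μ = 0
  · refine (not_double hf hsm (P := L ![1 + 3 * κ * ρ * x₀, 0, 3 * κ * ρ]) (fun h => ?_) fun r => ?_).elim
    · have h0 := congrFun (L.map_eq_zero_iff.1 h) 0
      have h2 := congrFun (L.map_eq_zero_iff.1 h) 2
      simp only [Matrix.cons_val, Pi.zero_apply] at h0 h2
      exact one_ne_zero (by linear_combination h0 - x₀ * h2)
    obtain ⟨r, rfl⟩ := L.surjective r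
    refine ⟨-(3 * κ * ((Pc r + σ * r 1) * (Pc r - σ * r 1))),
      (Pc r + σ * r 1) ^ 3 + (Pc r - σ * r 1) ^ 3 - 3 * κ * (U r * (Pc r + σ * r 1) * (Pc r - σ * r 1)), fun t => ?_⟩
    rw [← map_smul, ← map_add, key, hμ0]
    simp only [U, Pc, Pi.add_apply, Pi.smul_apply, smul_eq_mul, Matrix.cons_val]
    field_simp
    ring
  let T : V K →ₗ[K] V K :=
    { toFun := fun c => ![μ * U c, Pc c + σ * c 1, Pc c - σ * c 1]
      map_add' := fun c d => by funext i; fin_cases i <;> simp [U, Pc] <;> ring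
      map_smul' := fun r c => by funext i; fin_cases i <;> simp [U, Pc] <;> ring }
  have hT : Function.Injective T := (injective_iff_map_eq_zero T).2 fun c hc => by
    have h0 : μ * U c = 0 := congrFun hc 0
    have h1 : Pc c + σ * c 1 = 0 := congrFun hc 1
    have h2 : Pc c - σ * c 1 = 0 := congrFun hc 2
    have e0 : c 0 - x₀ * c 2 = 0 := (mul_eq_zero.1 h0).resolve_left hμ0
    have e1 : c 1 = 0 := (mul_eq_zero.1 (show σ * c 1 = 0 by linear_combination (h1 - h2) / 2)).resolve_left hσ0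
    have e2 : c 2 = 0 := by
      have h3 : Pc c = 0 := by linear_combination (h1 + h2) / 2
      simp only [Pc, U, e0] at h3
      simpa [hρ0] using h3
    funext i
    fin_cases i
    · simpa [e2] using e0
    · exact e1
    · exact e2
  refine ⟨L.symm.trans (LinearEquiv.ofInjectiveEndo T hT), κ / μ, ?_, fun x => ?_, ?_, ?_⟩
  · rw [div_pow, Ne, div_eq_one_iff_eq (pow_ne_zero 3 hμ0), hμ]
    exact fun h => ha (by linear_combination -h)
  · obtain ⟨c, rfl⟩ := L.surjective x
    rw [key]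
    change _ = hval (κ / μ) (T (L.symm (L c)))
    rw [L.symm_apply_apply]
    simp only [hval, T, LinearMap.coe_mk, AddHom.coe_mk, Matrix.cons_val]
    field_simp
  · change T (L.symm (L _)) 0 = 0
    rw [L.symm_apply_apply]
    simp [T, U]
  · change T (L.symm (L _)) 0 = 0
    rw [L.symm_apply_apply]
    simp [T, U]

/-- Hesse normal form with two prescribed flexes on the line `X₀ = 0` -/
theorem exists_hesse_two [IsAlgClosed K] (hsm : Smooth f) {v v' : V K} (hv : Flex f v) (hv' : Flex f v')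
    (hne : ∀ r : K, v' ≠ r • v) :
    ∃ (Φ : V K ≃ₗ[K] V K) (k : K), k ^ 3 ≠ 1 ∧ (∀ x, eval x f = hval k (Φ x)) ∧ Φ v 0 = 0 ∧ Φ v' 0 = 0 := by
  obtain ⟨L, a, p, q, e, ha, he, hLv, hW⟩ := exists_weierstrass hf hsm hv
  obtain ⟨hv0, hfv, w, hli, hw⟩ := (flex_iff hf v').1 hv'
  obtain ⟨c, rfl⟩ := L.surjective v'
  obtain ⟨d, rfl⟩ := L.surjective w
  have hc2 : c 2 ≠ 0 := fun h => by
    rw [hW, h] at hfv
    have hc0 : c 0 = 0 := by simpa [ha] using hfv
    refine hne (c 1) ?_
    rw [← hLv, ← map_smul]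
    congr 1
    funext i; fin_cases i <;> simp [hc0, h]
  set x₀ := c 0 / c 2 with hx
  set y₀ := c 1 / c 2 with hy
  set s := -(d 2 / c 2) with hs
  set d' : V K := ![d 0 + s * c 0, d 1 + s * c 1, 0] with hd'
  -- the flex line in affine coordinates
  have hline : ∀ t : K, eval (L (![x₀, y₀, 1] + t • d')) f = t ^ 3 * eval (L d') f := by
    intro t
    have hscale : ∀ (r : K) (x : V K), eval (r • x) f = r ^ 3 * eval x f := fun r x => by
      rw [eval_eq_S hf, eval_eq_S hf, S_smul1, S_smul2, S_smul3]; ring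
    have hd2 : d' = d + s • c := by
      funext i; fin_cases i
      · simp [hd']
      · simp [hd']
      · simp [hd', hs]; field_simp; ring
    have hexp := fun t : K => eval_add_smul hf (L c) (L d) t
    have h1 := hw 1
    have h2 := hw (-1)
    rw [eval_add_smul hf, eval_eq_S hf (L d)] at h1 h2
    have h3 : S f (L c) (L c) (L c) = 0 := by rw [← eval_eq_S hf]; exact hfv
    rw [h3] at h1 h2
    have hb : S f (L c) (L c) (L d) = 0 := by linear_combination (h1 - h2) / 6
    have hb' : S f (L c) (L d) (L d) = 0 := by linear_combination (h1 + h2) / 6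
    have hc' : (![x₀, y₀, 1] : V K) = (1 / c 2) • c := by
      funext i; fin_cases i <;> simp [hx, hy, hc2] <;> field_simp
    rw [hc', hd2, map_add, map_smul, map_smul, map_add, map_smul]
    rw [eval_eq_S hf, eval_eq_S hf]
    simp only [S_add1, S_add2, S_add3, S_smul1, S_smul2, S_smul3, h3, hb, hb',
      S_comm12 f (L d) (L c), S_comm23 f (L c) (L d) (L c), S_comm23 f (L d) (L d) (L c)]
    ring
  simp only [hW] at hline
  simp only [hd', Pi.add_apply, Pi.smul_apply, smul_eq_mul, Matrix.cons_val] at hline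
  set dx := d 0 + s * c 0
  set dy := d 1 + s * c 1
  have l0 := hline 0
  have l1 := hline 1
  have l2 := hline (-1)
  have q0 : a * (x₀ ^ 3 + p * x₀ + q) + e * y₀ ^ 2 = 0 := by linear_combination l0
  have q1 : a * (3 * x₀ ^ 2 + p) * dx + 2 * e * y₀ * dy = 0 := by linear_combination (l1 - l2) / 2
  have q2 : 3 * a * x₀ * dx ^ 2 + e * dy ^ 2 = 0 := by linear_combination (l1 + l2 - 2 * l0) / 2
  have hdx : dx ≠ 0 := by
    intro h
    have hdy : dy = 0 := by simpa [h, he] using q2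
    have hzero : d + s • c = 0 := by
      funext i; fin_cases i
      · exact h
      · exact hdy
      · simp [hs]; field_simp; ring
    have := LinearIndependent.pair_iff.1 hli s 1 (by rw [one_smul, ← map_smul, ← map_add, add_comm, hzero, map_zero])
    exact one_ne_zero this.2
  obtain ⟨Φ, k, hk, hΦ, hΦv, hΦv'⟩ := exists_hesse_of_weierstrass hf hsm L ha he hW (x₀ := x₀) (y₀ := y₀)
    (m := dy / dx) q0 (by field_simp; linear_combination q1) (by field_simp; linear_combination q2)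
  refine ⟨Φ, k, hk, hΦ, hLv ▸ hΦv, ?_⟩
  have hc' : c = c 2 • (![x₀, y₀, 1] : V K) := by
    funext i; fin_cases i <;> simp [hx, hy] <;> field_simp
  rw [hc', map_smul, map_smul, Pi.smul_apply, hΦv', smul_zero]

/-- Hesse normal form with a prescribed flex on the line `X₀ = 0` -/
theorem exists_hesse_one [IsAlgClosed K] (hsm : Smooth f) {v : V K} (hv : Flex f v) :
    ∃ (Φ : V K ≃ₗ[K] V K) (k : K), k ^ 3 ≠ 1 ∧ (∀ x, eval x f = hval k (Φ x)) ∧ Φ v 0 = 0 := by
  obtain ⟨L, a, p, q, e, ha, he, hLv, hW⟩ := exists_weierstrass hf hsm hv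
  suffices ∃ x₀ y₀ m : K, a * (x₀ ^ 3 + p * x₀ + q) + e * y₀ ^ 2 = 0 ∧
      a * (3 * x₀ ^ 2 + p) + 2 * e * y₀ * m = 0 ∧ 3 * a * x₀ + e * m ^ 2 = 0 by
    obtain ⟨x₀, y₀, m, C0, C1, C2⟩ := this
    obtain ⟨Φ, k, hk, hΦ, h, -⟩ := exists_hesse_of_weierstrass hf hsm L ha he hW C0 C1 C2
    exact ⟨Φ, k, hk, hΦ, hLv ▸ h⟩
  rcases eq_or_ne p 0 with rfl | hp
  · obtain ⟨y₀, hy⟩ := IsAlgClosed.exists_pow_nat_eq (-(a * q) / e) (show 0 < 2 by norm_num)
    exact ⟨0, y₀, 0, by rw [hy]; field_simp; ring, by ring, by ring⟩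
  obtain ⟨x₀, hx⟩ := IsAlgClosed.exists_root
    (Polynomial.C 3 * Polynomial.X ^ 4 + Polynomial.C (6 * p) * Polynomial.X ^ 2 +
      Polynomial.C (12 * q) * Polynomial.X + Polynomial.C (-p ^ 2))
    (fun h => by
      have h1 := congrArg (Polynomial.coeff · 4) (Polynomial.eq_C_of_degree_eq_zero h)
      simp only [Polynomial.coeff_add, Polynomial.coeff_C_mul, Polynomial.coeff_X_pow, Polynomial.coeff_X, Polynomial.coeff_C] at h1; norm_num at h1)
  simp only [Polynomial.IsRoot.def, Polynomial.eval_add, Polynomial.eval_mul, Polynomial.eval_pow,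
    Polynomial.eval_C, Polynomial.eval_X] at hx
  have hx0 : x₀ ≠ 0 := by
    rintro rfl
    exact hp (pow_eq_zero_iff two_ne_zero |>.1 (by linear_combination -hx))
  obtain ⟨m, hm⟩ := IsAlgClosed.exists_pow_nat_eq (-(3 * a * x₀) / e) (show 0 < 2 by norm_num)
  have hm' : e * m ^ 2 = -(3 * a * x₀) := by rw [hm]; field_simp
  have hm0 : m ≠ 0 := by
    rintro rfl
    exact mul_ne_zero (mul_ne_zero three_ne_zero ha) hx0 (by linear_combination hm')
  refine ⟨x₀, -(a * (3 * x₀ ^ 2 + p)) / (2 * e * m), m, ?_, by field_simp; ring, by linear_combination hm'⟩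
  field_simp
  grind

end Groth.Agent.PlaneCubic
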